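import Cfsg.Agent.H37.NW.NumR
import Cfsg.Agent.H727.GW.Sp

/-!
# S4979, [B4]: elements of order three of `Sp_{2n}(2)`: a lower bound for the normalizer
-/

set_option autoImplicit false
set_option linter.unusedSectionVars false

namespace Cfsg.Agent.H907.NX

open Module
open Cfsg.Agent.LieClassical.SympCount
open Cfsg.Agent.H727.GW

universe v

section trans

variable {V : Type v} [AddCommGroup V] [Module (ZMod 2) V] {B : LinearMap.BilinForm (ZMod 2) V}

theorem two_eq (w : V) : w + w = 0 := by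
  have h : (2 : ZMod 2) = 0 := by decide
  rw [← two_smul (ZMod 2) w, h, zero_smul]

theorem F2_ne {a : ZMod 2} (h : a ≠ 0) : a = 1 := by
  have : ∀ a : ZMod 2, a ≠ 0 → a = 1 := by decide
  exact this a h

theorem F2_two (a : ZMod 2) : a + a = 0 := by
  have : ∀ a : ZMod 2, a + a = 0 := by decide
  exact this a

/-- the form is symmetric -/
theorem B_symm (hB : ∀ x, B x x = 0) (u w : V) : B u w = B w u := by
  have h := alt_swap B hB u w
  rw [h]
  have : ∀ a : ZMod 2, -a = a := by decide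
  exact this _

/-- the transvection -/
def trvL (B : LinearMap.BilinForm (ZMod 2) V) (v : V) : V →ₗ[ZMod 2] V where
  toFun w := w + B w v • v
  map_add' a b := by
    rw [map_add, LinearMap.add_apply, add_smul]
    abel
  map_smul' c a := by
    rw [map_smul, LinearMap.smul_apply, smul_eq_mul, mul_smul, RingHom.id_apply, smul_add]

theorem trvL_apply (B : LinearMap.BilinForm (ZMod 2) V) (v w : V) : trvL B v w = w + B w v • v := rfl

theorem trvL_trvL (hB : ∀ x, B x x = 0) (v w : V) : trvL B v (trvL B v w) = w := by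
  rw [trvL_apply, trvL_apply, map_add, LinearMap.add_apply, map_smul, LinearMap.smul_apply, hB, smul_zero, add_zero,
    add_assoc, ← add_smul, F2_two, zero_smul, add_zero]

/-- the transvection -/
def trv (B : LinearMap.BilinForm (ZMod 2) V) (hB : ∀ x, B x x = 0) (v : V) : V ≃ₗ[ZMod 2] V :=
  { trvL B v with
    invFun := trvL B v
    left_inv := trvL_trvL hB v
    right_inv := trvL_trvL hB v }

theorem trv_apply (hB : ∀ x, B x x = 0) (v w : V) : trv B hB v w = w + B w v • v := rfl

theorem trv_mem (hB : ∀ x, B x x = 0) (v : V) : trv B hB v ∈ isomGroup B := by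
  intro u w
  rw [trv_apply, trv_apply]
  simp only [map_add, map_smul, LinearMap.add_apply, LinearMap.smul_apply, hB, smul_eq_mul, mul_zero, add_zero]
  rw [B_symm hB v w]
  have : ∀ a b c : ZMod 2, a + b * c + c * b = a := by decide
  exact this _ _ _

theorem isomGroup_apply {g : V ≃ₗ[ZMod 2] V} (hg : g ∈ isomGroup B) (u w : V) : B (g u) (g w) = B u w := hg u w

/-- a vector moved by `x` in the symplectic sense -/
theorem exists_v (hB : ∀ x, B x x = 0) (hnd : ∀ x, (∀ y, B x y = 0) → x = 0) {x : V ≃ₗ[ZMod 2] V}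
    (hx : x ∈ isomGroup B) (hx3 : ∀ w, x (x (x w)) = w) (hne : ∃ w, x w ≠ w) :
    ∃ v, x (x v) = v + x v ∧ B v (x v) = 1 := by
  by_contra hcon
  push Not at hcon
  obtain ⟨w₀, hw₀⟩ := hne
  -- vectors of the form `w + x w`
  have hD : ∀ w, x (x (w + x w)) = (w + x w) + x (w + x w) := by
    intro w
    rw [map_add, map_add, hx3]
    have h1 := two_eq (x w)
    calc x (x w) + w = w + x (x w) + 0 := by abel
      _ = w + x (x w) + (x w + x w) := by rw [h1]
      _ = _ := by abel
  have h0 : ∀ w, B (w + x w) (x (w + x w)) = 0 := by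
    intro w
    by_contra h
    exact hcon _ (hD w) (F2_ne h)
  -- polarization
  have h1 : ∀ w w', B (w + x w) (x (w' + x w')) + B (w' + x w') (x (w + x w)) = 0 := by
    intro w w'
    have h2 := h0 (w + w')
    have e : w + w' + x (w + w') = (w + x w) + (w' + x w') := by rw [map_add]; abel
    rw [e] at h2
    have h3 := h0 w
    have h4 := h0 w'
    generalize w + x w = a at h2 h3 ⊢
    generalize w' + x w' = b at h2 h4 ⊢
    rw [map_add x a b, map_add B a b, LinearMap.add_apply, map_add (B a), map_add (B b), h3, h4, zero_add, add_zero] at h2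
    exact h2
  have h2 : ∀ w w', B (w + x w) (w' + x w') = 0 := by
    intro w w'
    have h3 := h1 w w'
    -- `B(u, x u') + B(u', x u) = B(x x u + x u, u') = B(u, u')`
    have e1 : B (w + x w) (x (w' + x w')) = B (x (x (w + x w))) (w' + x w') := by
      have h4 := isomGroup_apply hx (x (x (w + x w))) (w' + x w')
      rw [hx3] at h4
      exact h4
    have e2 : B (w' + x w') (x (w + x w)) = B (x (w + x w)) (w' + x w') := B_symm hB _ _
    rw [e1, e2, ← LinearMap.add_apply, ← map_add, hD] at h3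
    have e3 : w + x w + x (w + x w) + x (w + x w) = w + x w := by rw [add_assoc, two_eq, add_zero]
    rwa [e3] at h3
  have h3 : ∀ w, w + x w = 0 := by
    intro w
    have h4 : x w + x (x w) = 0 := by
      apply hnd
      intro w'
      have h5 := h2 w w'
      rw [map_add B, LinearMap.add_apply, map_add, map_add, isomGroup_apply hx] at h5
      have e1 : B w (x w') = B (x (x w)) w' := by
        have h6 := isomGroup_apply hx (x (x w)) w'
        rw [hx3] at h6
        exact h6
      rw [map_add B, LinearMap.add_apply]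
      rw [e1] at h5
      have h7 : ∀ a b c : ZMod 2, a + b + (c + a) = 0 → c + b = 0 := by decide
      exact h7 _ _ _ h5
    have h5 := congrArg (fun z => x (x z)) h4
    simp only [map_add, hx3, map_zero] at h5
    exact h5
  apply hw₀
  have h4 := h3 w₀
  have h5 := two_eq w₀
  have h6 : x w₀ = w₀ := by
    have h7 : w₀ + x w₀ = w₀ + w₀ := by rw [h4, h5]
    exact add_left_cancel h7
  exact h6

end trans

section step

variable {V : Type v} [AddCommGroup V] [Module (ZMod 2) V] [Finite V] {B : LinearMap.BilinForm (ZMod 2) V}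
  (hB : ∀ x, B x x = 0) (hnd : ∀ x, (∀ y, B x y = 0) → x = 0) {x : V ≃ₗ[ZMod 2] V}
  (hx : x ∈ isomGroup B) (hx3 : ∀ w, x (x (x w)) = w) {v : V} (hv : x (x v) = v + x v) (hv1 : B v (x v) = 1)

/-- the complement of the plane -/
abbrev Wp (B : LinearMap.BilinForm (ZMod 2) V) (x : V ≃ₗ[ZMod 2] V) (v : V) : Submodule (ZMod 2) V := perp B v (x v)

include hB hv1 in
theorem decomp_perp (u : V) : u + B (x v) u • v + B v u • x v ∈ Wp B x v := by
  rw [Wp, mem_perp]
  have h1 : B (x v) v = 1 := by rw [B_symm hB, hv1]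
  simp only [map_add, map_smul, hB, hv1, h1, smul_eq_mul, mul_zero, mul_one, add_zero]
  exact ⟨F2_two _, F2_two _⟩

include hB hv1 in
/-- two maps that agree on the complement and on the plane are equal -/
theorem ext_perp {f g : V ≃ₗ[ZMod 2] V} (h : ∀ c ∈ Wp B x v, f c = g c) (h1 : f v = g v) (h2 : f (x v) = g (x v)) :
    f = g := by
  apply LinearEquiv.ext
  intro u
  have h3 := h _ (decomp_perp hB hv1 u)
  rw [map_add, map_add, map_add g, map_add g, map_smul, map_smul, map_smul, map_smul, h1, h2] at h3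
  exact add_right_cancel (add_right_cancel h3)

include hB hnd hv1 in
theorem nd_perp (c : V) (hc : c ∈ Wp B x v) (h : ∀ c' ∈ Wp B x v, B c c' = 0) : c = 0 :=
  congrArg Subtype.val (nondeg_perp B hB hnd hv1 ⟨c, hc⟩ fun y => h y y.2)

include hx hx3 hv in
theorem map_perp {c : V} (hc : c ∈ Wp B x v) : x c ∈ Wp B x v := by
  rw [Wp, mem_perp] at hc ⊢
  refine ⟨?_, ?_⟩
  · have h1 := isomGroup_apply hx (x (x v)) c
    rw [hx3, hv, map_add B, LinearMap.add_apply, hc.1, hc.2, add_zero] at h1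
    exact h1
  · rw [isomGroup_apply hx]
    exact hc.1

include hx hx3 hv in
/-- the fixed space is orthogonal to the plane -/
theorem fix_perp : fixS x ≤ Wp B x v := by
  intro c hc
  rw [mem_fixS] at hc
  have h1 := isomGroup_apply hx v c
  have h2 := isomGroup_apply hx (x v) c
  rw [hc] at h1 h2
  rw [hv, map_add B, LinearMap.add_apply, add_eq_right] at h2
  rw [Wp, mem_perp]
  exact ⟨h2, h1.trans h2⟩

/-- the restriction of `x` -/
noncomputable def resP : Wp B x v ≃ₗ[ZMod 2] Wp B x v :=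
  LinearEquiv.ofInjectiveEndo ((x : V →ₗ[ZMod 2] V).restrict (fun _ hd => map_perp hx hx3 hv hd)) (by
    intro a b h
    apply Subtype.ext
    apply x.injective
    exact congrArg Subtype.val h)

theorem resP_apply (c : Wp B x v) : (resP hx hx3 hv c : V) = x c := rfl

theorem resP_mem : resP hx hx3 hv ∈ isomGroup (B.restrict (Wp B x v)) := fun u w => hx u w

theorem resP_three (c : Wp B x v) : resP hx hx3 hv (resP hx hx3 hv (resP hx hx3 hv c)) = c :=
  Subtype.ext (hx3 c)

theorem finrank_fix_resP : finrank (ZMod 2) (fixS (resP hx hx3 hv)) = finrank (ZMod 2) (fixS x) := by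
  have h1 : fixS (resP hx hx3 hv) = (fixS x).comap (Wp B x v).subtype := by
    ext c
    rw [mem_fixS, Submodule.mem_comap, mem_fixS, Subtype.ext_iff]
    rfl
  rw [h1]
  exact (Submodule.comapSubtypeEquivOfLe (fix_perp hx hx3 hv)).finrank_eq

include hB in
theorem v_orth : v ∈ B.orthogonal (Wp B x v) := by
  rw [LinearMap.BilinForm.mem_orthogonal_iff]
  intro c hc
  show B c v = 0
  rw [B_symm hB]
  exact ((mem_perp _ _ _ _).1 hc).1

include hB in
theorem xv_orth : x v ∈ B.orthogonal (Wp B x v) := by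
  rw [LinearMap.BilinForm.mem_orthogonal_iff]
  intro c hc
  show B c (x v) = 0
  rw [B_symm hB]
  exact ((mem_perp _ _ _ _).1 hc).2

/-- the gluing -/
noncomputable def gl (f : Wp B x v ≃ₗ[ZMod 2] Wp B x v) : V ≃ₗ[ZMod 2] V :=
  glue hB (Wp B x v) (nd_perp hB hnd hv1) f

theorem gl_c (f : Wp B x v ≃ₗ[ZMod 2] Wp B x v) (c : Wp B x v) : gl hB hnd hv1 f c = f c := by
  have h := glue_apply hB (Wp B x v) (nd_perp hB hnd hv1) f c 0 (zero_mem _)
  rwa [add_zero, add_zero] at h

theorem gl_orth (f : Wp B x v ≃ₗ[ZMod 2] Wp B x v) {d : V} (hd : d ∈ B.orthogonal (Wp B x v)) :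
    gl hB hnd hv1 f d = d := by
  have h := glue_apply hB (Wp B x v) (nd_perp hB hnd hv1) f 0 d hd
  rwa [map_zero, ZeroMemClass.coe_zero, zero_add] at h

theorem gl_v (f : Wp B x v ≃ₗ[ZMod 2] Wp B x v) : gl hB hnd hv1 f v = v := gl_orth hB hnd hv1 f (v_orth hB)

theorem gl_xv (f : Wp B x v ≃ₗ[ZMod 2] Wp B x v) : gl hB hnd hv1 f (x v) = x v := gl_orth hB hnd hv1 f (xv_orth hB)

theorem gl_mem {f : Wp B x v ≃ₗ[ZMod 2] Wp B x v} (hf : f ∈ isomGroup (B.restrict (Wp B x v))) :
    gl hB hnd hv1 f ∈ isomGroup B := glue_mem hB (Wp B x v) (nd_perp hB hnd hv1) hf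

include hv in
theorem gl_comm {f : Wp B x v ≃ₗ[ZMod 2] Wp B x v} (hf : ∀ c, f (resP hx hx3 hv c) = resP hx hx3 hv (f c)) :
    gl hB hnd hv1 f * x = x * gl hB hnd hv1 f := by
  apply ext_perp hB hv1
  · intro c hc
    rw [LinearEquiv.mul_apply, LinearEquiv.mul_apply]
    have h1 := gl_c hB hnd hv1 f ⟨c, hc⟩
    have h2 := gl_c hB hnd hv1 f (resP hx hx3 hv ⟨c, hc⟩)
    rw [hf] at h2
    change gl hB hnd hv1 f (x c) = x (f ⟨c, hc⟩) at h2
    change gl hB hnd hv1 f c = f ⟨c, hc⟩ at h1
    rw [h1, h2]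
  · rw [LinearEquiv.mul_apply, LinearEquiv.mul_apply, gl_v, gl_xv]
  · rw [LinearEquiv.mul_apply, LinearEquiv.mul_apply, gl_xv, hv, map_add, gl_v, gl_xv]

/-- the rotation of the plane -/
def rot (B : LinearMap.BilinForm (ZMod 2) V) (hB : ∀ x, B x x = 0) (x : V ≃ₗ[ZMod 2] V) (v : V) : V ≃ₗ[ZMod 2] V :=
  trv B hB v * trv B hB (x v)

theorem rot_mem : rot B hB x v ∈ isomGroup B := mul_mem (trv_mem hB v) (trv_mem hB (x v))

theorem trv_v_c {c : V} (hc : c ∈ Wp B x v) : trv B hB v c = c := by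
  rw [trv_apply, B_symm hB, ((mem_perp _ _ _ _).1 hc).1, zero_smul, add_zero]

theorem trv_xv_c {c : V} (hc : c ∈ Wp B x v) : trv B hB (x v) c = c := by
  rw [trv_apply, B_symm hB, ((mem_perp _ _ _ _).1 hc).2, zero_smul, add_zero]

theorem rot_c {c : V} (hc : c ∈ Wp B x v) : rot B hB x v c = c := by
  rw [rot, LinearEquiv.mul_apply, trv_xv_c hB hc, trv_v_c hB hc]

include hv1 in
theorem rot_v : rot B hB x v v = x v := by
  rw [rot, LinearEquiv.mul_apply, trv_apply hB (x v) v, hv1, one_smul, trv_apply, map_add B, LinearMap.add_apply, hB,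
    zero_add, B_symm hB, hv1, one_smul, add_comm, ← add_assoc, two_eq, zero_add]

include hv1 in
theorem rot_xv : rot B hB x v (x v) = v + x v := by
  rw [rot, LinearEquiv.mul_apply, trv_apply hB (x v) (x v), hB, zero_smul, add_zero, trv_apply, B_symm hB, hv1,
    one_smul, add_comm]

include hx hx3 hv hv1 in
theorem rot_comm : rot B hB x v * x = x * rot B hB x v := by
  apply ext_perp hB hv1
  · intro c hc
    rw [LinearEquiv.mul_apply, LinearEquiv.mul_apply, rot_c hB hc, rot_c hB (map_perp hx hx3 hv hc)]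
  · rw [LinearEquiv.mul_apply, LinearEquiv.mul_apply, rot_v hB hv1, rot_xv hB hv1, hv]
  · rw [LinearEquiv.mul_apply, LinearEquiv.mul_apply, rot_xv hB hv1, hv, map_add, rot_v hB hv1, rot_xv hB hv1,
      map_add, hv]

include hB hnd hx hx3 hv hv1 in
/-- **The centralizer grows by a factor three.** -/
theorem card_cent_step :
    3 * Nat.card {g : isomGroup (B.restrict (Wp B x v)) // ∀ c, g.1 (resP hx hx3 hv c) = resP hx hx3 hv (g.1 c)} ≤
      Nat.card {g : isomGroup B // g.1 * x = x * g.1} := by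
  have : Finite (V ≃ₗ[ZMod 2] V) :=
    Finite.of_injective (fun e : V ≃ₗ[ZMod 2] V => (e : V → V)) DFunLike.coe_injective
  rw [show 3 * Nat.card {g : isomGroup (B.restrict (Wp B x v)) // ∀ c, g.1 (resP hx hx3 hv c) = resP hx hx3 hv (g.1 c)} =
    Nat.card (Fin 3 × {g : isomGroup (B.restrict (Wp B x v)) // ∀ c, g.1 (resP hx hx3 hv c) = resP hx hx3 hv (g.1 c)}) by
      rw [Nat.card_prod, Nat.card_eq_fintype_card (α := Fin 3), Fintype.card_fin]]
  have hcm : ∀ i : ℕ, (rot B hB x v) ^ i * x = x * (rot B hB x v) ^ i := fun i =>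
    (Commute.pow_left (rot_comm hB hx hx3 hv hv1 : Commute (rot B hB x v) x) i)
  let Φ : Fin 3 × {g : isomGroup (B.restrict (Wp B x v)) // ∀ c, g.1 (resP hx hx3 hv c) = resP hx hx3 hv (g.1 c)} →
      {g : isomGroup B // g.1 * x = x * g.1} := fun t =>
    ⟨⟨gl hB hnd hv1 t.2.1.1 * (rot B hB x v) ^ (t.1 : ℕ), mul_mem (gl_mem hB hnd hv1 t.2.1.2) (pow_mem (rot_mem hB) _)⟩, by
      show gl hB hnd hv1 t.2.1.1 * (rot B hB x v) ^ (t.1 : ℕ) * x = x * (gl hB hnd hv1 t.2.1.1 * (rot B hB x v) ^ (t.1 : ℕ))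
      rw [mul_assoc, hcm, ← mul_assoc, gl_comm hB hnd hx hx3 hv hv1 t.2.2, mul_assoc]⟩
  refine Nat.card_le_card_of_injective Φ ?_
  rintro ⟨i, f⟩ ⟨j, g⟩ h
  have h2 : gl hB hnd hv1 f.1.1 * (rot B hB x v) ^ (i : ℕ) = gl hB hnd hv1 g.1.1 * (rot B hB x v) ^ (j : ℕ) :=
    congrArg (fun t : {g : isomGroup B // g.1 * x = x * g.1} => (t.1.1 : V ≃ₗ[ZMod 2] V)) h
  have h3 : f = g := by
    apply Subtype.ext
    apply Subtype.ext
    apply LinearEquiv.ext
    intro c
    have h4 := congrArg (fun e : V ≃ₗ[ZMod 2] V => e (c : V)) h2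
    simp only [LinearEquiv.mul_apply] at h4
    rw [pow_fix (rot_c hB c.2), pow_fix (rot_c hB c.2), gl_c, gl_c] at h4
    exact Subtype.ext h4
  subst h3
  have h4 : (rot B hB x v) ^ (i : ℕ) = (rot B hB x v) ^ (j : ℕ) := mul_left_cancel h2
  have h5 : orderOf (rot B hB x v) = 3 := by
    refine orderOf_eq_prime ?_ ?_
    · apply ext_perp hB hv1
      · intro c hc
        rw [pow_fix (rot_c hB hc)]
        rfl
      · rw [pow_succ, pow_two, LinearEquiv.mul_apply, LinearEquiv.mul_apply, rot_v hB hv1, rot_xv hB hv1, map_add,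
          rot_v hB hv1, rot_xv hB hv1]
        show x v + (v + x v) = v
        rw [add_comm v, ← add_assoc, two_eq, zero_add]
      · rw [pow_succ, pow_two, LinearEquiv.mul_apply, LinearEquiv.mul_apply, rot_xv hB hv1, map_add,
          rot_v hB hv1, rot_xv hB hv1, map_add, map_add, rot_v hB hv1, rot_xv hB hv1]
        show v + x v + (x v + (v + x v)) = x v
        have h6 := two_eq v
        have h7 := two_eq (x v)
        calc v + x v + (x v + (v + x v)) = x v + ((v + v) + (x v + x v)) := by abel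
          _ = _ := by rw [h6, h7, add_zero, add_zero]
    · intro h6
      have h7 := congrArg (fun e : V ≃ₗ[ZMod 2] V => e v) h6
      simp only [rot_v hB hv1] at h7
      change x v = v at h7
      rw [h7, hB] at hv1
      exact zero_ne_one hv1
  have h6 : (i : ℕ) = j := pow_injOn_Iio_orderOf (by rw [h5]; exact i.2) (by rw [h5]; exact j.2) h4
  rw [Fin.ext h6]

include hB hnd hx hx3 hv hv1 in
/-- inverting elements extend -/
theorem exists_inv_step (h : ∃ t ∈ isomGroup (B.restrict (Wp B x v)),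
    ∀ c, t (resP hx hx3 hv c) = resP hx hx3 hv (resP hx hx3 hv (t c))) :
    ∃ t ∈ isomGroup B, ∀ w, t (x w) = x (x (t w)) := by
  obtain ⟨t, ht, htc⟩ := h
  refine ⟨gl hB hnd hv1 t * trv B hB v, mul_mem (gl_mem hB hnd hv1 ht) (trv_mem hB v), ?_⟩
  have key : gl hB hnd hv1 t * trv B hB v * x = x * x * (gl hB hnd hv1 t * trv B hB v) := by
    apply ext_perp hB hv1
    · intro c hc
      simp only [LinearEquiv.mul_apply]
      rw [trv_v_c hB hc, trv_v_c hB (map_perp hx hx3 hv hc)]
      have h1 := gl_c hB hnd hv1 t ⟨c, hc⟩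
      have h2 := gl_c hB hnd hv1 t (resP hx hx3 hv ⟨c, hc⟩)
      rw [htc] at h2
      change gl hB hnd hv1 t (x c) = x (x (t ⟨c, hc⟩)) at h2
      change gl hB hnd hv1 t c = t ⟨c, hc⟩ at h1
      rw [h1, h2]
    · simp only [LinearEquiv.mul_apply]
      rw [trv_apply, trv_apply, hB, zero_smul, add_zero, B_symm hB, hv1, one_smul, map_add, gl_v, gl_xv, hv, add_comm]
    · simp only [LinearEquiv.mul_apply]
      rw [hv, map_add (trv B hB v), trv_apply, trv_apply, hB, zero_smul, add_zero, B_symm hB, hv1, one_smul,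
        map_add, map_add, gl_v, gl_xv, map_add, map_add, hx3, hv]
      rw [add_comm (x v) v, ← add_assoc, two_eq, zero_add]
  intro w
  exact congrArg (fun e : V ≃ₗ[ZMod 2] V => e w) key

end step

end Cfsg.Agent.H907.NX
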