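import Cfsg.Agent.H586.NX.Defs
import Cfsg.Agent.H907.NX.B4
import Cfsg.Agent.H907.NX.Three

/-!
# S4979, [B4]: a lower bound for the normalizer of a subgroup of order three in `Sp_{2n}(2)`
-/

set_option autoImplicit false
set_option linter.unusedSectionVars false

namespace Cfsg.Agent.H907.NX

open Module
open Cfsg.Agent.LieClassical.SympCount
open Cfsg.Agent.H586.NX Cfsg.Agent.H727.GW

universe v

/-- the claim, by induction -/
theorem three_claim (m : ℕ) : ∀ (k : ℕ) (V : Type v) [AddCommGroup V] [Module (ZMod 2) V] [Finite V]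
    (B : LinearMap.BilinForm (ZMod 2) V), (∀ x, B x x = 0) → (∀ x, (∀ y, B x y = 0) → x = 0) →
    ∀ (x : V ≃ₗ[ZMod 2] V), x ∈ isomGroup B → (∀ w, x (x (x w)) = w) →
    finrank (ZMod 2) V = 2 * (m + k) → finrank (ZMod 2) (fixS x) = 2 * m →
    3 ^ k * Cfsg.Agent.H37.NW.P 2 m ≤ Nat.card {g : isomGroup B // g.1 * x = x * g.1} ∧
      ∃ t ∈ isomGroup B, ∀ w, t (x w) = x (x (t w)) := by
  intro k
  induction k with
  | zero =>
    intro V _ _ _ B hB hnd x hx hx3 hV hfx
    have h1 : fixS x = ⊤ := Submodule.eq_top_of_finrank_eq (by rw [hfx, hV, add_zero])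
    have h2 : x = 1 := by
      apply LinearEquiv.ext
      intro w
      have h3 : w ∈ fixS x := by rw [h1]; exact Submodule.mem_top
      exact mem_fixS.1 h3
    subst h2
    refine ⟨?_, 1, one_mem _, fun w => rfl⟩
    have h3 : Nat.card {g : isomGroup B // g.1 * 1 = 1 * g.1} = Nat.card (isomGroup B) :=
      Nat.card_congr (Equiv.subtypeUnivEquiv fun g => by rw [mul_one, one_mul])
    rw [h3, card_isomGroup B hB hnd (m := m) (by rw [hV, add_zero]), ZMod.card, pow_zero, one_mul]
    exact le_refl _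
  | succ k ih =>
    intro V _ _ _ B hB hnd x hx hx3 hV hfx
    have hne : ∃ w, x w ≠ w := by
      by_contra hcon
      push Not at hcon
      have h1 : fixS x = ⊤ := by
        rw [eq_top_iff]
        intro w _
        exact hcon w
      rw [h1, finrank_top, hV] at hfx
      omega
    obtain ⟨v, hv, hv1⟩ := exists_v hB hnd hx hx3 hne
    have h1 := finrank_perp B hB hv1
    have h2 := ih (Wp B x v) (B.restrict (Wp B x v)) (fun c => hB c) (nondeg_perp B hB hnd hv1)
      (resP hx hx3 hv) (resP_mem hx hx3 hv) (resP_three hx hx3 hv) (by rw [Wp]; omega)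
      (by rw [finrank_fix_resP, hfx])
    refine ⟨?_, exists_inv_step hB hnd hx hx3 hv hv1 h2.2⟩
    refine le_trans ?_ (card_cent_step hB hnd hx hx3 hv hv1)
    rw [pow_succ, mul_comm _ 3, mul_assoc]
    refine Nat.mul_le_mul_left 3 (h2.1.trans (le_of_eq ?_))
    refine Nat.card_congr (Equiv.subtypeEquivRight fun g => ?_)
    constructor
    · intro h c
      exact congrArg (fun e : (Wp B x v) ≃ₗ[ZMod 2] (Wp B x v) => e c) h
    · intro h
      exact LinearEquiv.ext h

/-- two copies of the centralizer in the normalizer -/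
theorem two_mul_cent_le {G : Type*} [Group G] [Finite G] {x t : G} (hx : orderOf x = 3) (ht : t * x = x * x * t) :
    2 * Nat.card {g : G // g * x = x * g} ≤
      Nat.card (Subgroup.normalizer ((Subgroup.zpowers x : Subgroup G) : Set G)) := by
  have hx3 : x * x * x = 1 := by
    have h1 : x ^ 3 = 1 := hx ▸ pow_orderOf_eq_one x
    rw [← pow_two, ← pow_succ]
    exact h1
  have hinv : x * x = x⁻¹ := eq_inv_of_mul_eq_one_left hx3
  -- a criterion
  have hcr : ∀ g : G, g * x * g⁻¹ ∈ Subgroup.zpowers x → ∀ h ∈ Subgroup.zpowers x, g * h * g⁻¹ ∈ Subgroup.zpowers x := by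
    intro g hg h hh
    obtain ⟨i, rfl⟩ := Subgroup.mem_zpowers_iff.1 hh
    rw [← conj_zpow]
    exact zpow_mem hg i
  have hcn : ∀ g : G, g * x * g⁻¹ ∈ Subgroup.zpowers x → g⁻¹ * x * g ∈ Subgroup.zpowers x →
      g ∈ Subgroup.normalizer ((Subgroup.zpowers x : Subgroup G) : Set G) := by
    intro g h1 h2
    rw [Subgroup.mem_normalizer_iff]
    intro h
    refine ⟨hcr g h1 h, fun h3 => ?_⟩
    have h4 := hcr g⁻¹ (by rwa [inv_inv]) _ h3
    rwa [inv_inv, show g⁻¹ * (g * h * g⁻¹) * g = h by group] at h4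
  have hxm : x ∈ Subgroup.zpowers x := Subgroup.mem_zpowers x
  have hC : ∀ g : G, g * x = x * g → g ∈ Subgroup.normalizer ((Subgroup.zpowers x : Subgroup G) : Set G) := by
    intro g hg
    refine hcn g ?_ ?_
    · rwa [hg, mul_inv_cancel_right]
    · rwa [mul_assoc, ← hg, inv_mul_cancel_left]
  have hT : t ∈ Subgroup.normalizer ((Subgroup.zpowers x : Subgroup G) : Set G) := by
    rw [hinv] at ht
    refine hcn t ?_ ?_
    · rw [ht, mul_inv_cancel_right]
      exact inv_mem hxm
    · have h1 : t * x⁻¹ = x * t := by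
        rw [mul_inv_eq_iff_eq_mul, mul_assoc, ht, mul_inv_cancel_left]
      rw [mul_assoc, ← h1, inv_mul_cancel_left]
      exact inv_mem hxm
  rw [show 2 * Nat.card {g : G // g * x = x * g} = Nat.card (Bool × {g : G // g * x = x * g}) by
    rw [Nat.card_prod, Nat.card_eq_fintype_card (α := Bool), Fintype.card_bool]]
  let Φ : Bool × {g : G // g * x = x * g} → Subgroup.normalizer ((Subgroup.zpowers x : Subgroup G) : Set G) :=
    fun a => if a.1 then ⟨t * a.2.1, mul_mem hT (hC _ a.2.2)⟩ else ⟨a.2.1, hC _ a.2.2⟩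
  refine Nat.card_le_card_of_injective Φ ?_
  have hno : ∀ a b : {g : G // g * x = x * g}, t * a.1 ≠ b.1 := by
    intro a b hab
    have h1 : t * x = x * t := by
      have h2 : t = b.1 * a.1⁻¹ := by rw [← hab, mul_inv_cancel_right]
      have h3 : a.1⁻¹ * x = x * a.1⁻¹ := by
        rw [inv_mul_eq_iff_eq_mul, ← mul_assoc, a.2, mul_inv_cancel_right]
      rw [h2, mul_assoc, h3, ← mul_assoc, b.2, mul_assoc]
    rw [ht] at h1
    have h2 : x * x = x := mul_right_cancel h1
    have h3 : x = 1 := by simpa using h2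
    rw [h3, orderOf_one] at hx
    omega
  rintro ⟨i, a⟩ ⟨j, b⟩ hab
  have hab' := congrArg Subtype.val hab
  rcases i with _ | _ <;> rcases j with _ | _
  · have h1 : a.1 = b.1 := hab'
    rw [Subtype.ext h1]
  · exact absurd (show t * b.1 = a.1 from hab'.symm) (hno b a)
  · exact absurd (show t * a.1 = b.1 from hab') (hno a b)
  · have h1 : t * a.1 = t * b.1 := hab'
    rw [Subtype.ext (mul_left_cancel h1)]

section SXsec
variable {q n : ℕ} {Y U : Type*} [Group Y] [Finite Y] [AddCommGroup U] [Finite U] [DistribMulAction Y U]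
  {X : Subgroup Y}

theorem normalizer_index_le {B : U → U → ZMod 2} (h : SX (U := U) 3 q 2 n X B) {x : Y} (hx : orderOf x = 3) {k : ℕ}
    (hk : k ≤ n) (hfix : Nat.card {u : U // x • u = u} = 2 ^ (2 * (n - k))) :
    (Subgroup.normalizer ((Subgroup.zpowers x : Subgroup Y) : Set Y)).index *
      (2 * 3 ^ k * Cfsg.Agent.H37.NW.P 2 (n - k)) ≤ Cfsg.Agent.H37.NW.P 2 n := by
  have := Fact.mk h.hs
  obtain ⟨M, B', ρ, h1, -, h2, h3, h4, h5⟩ := setup B h.faith h.exp h.card h.addl h.addr h.alt h.nd h.inv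
  have : Finite (U ≃ₗ[ZMod 2] U) :=
    Finite.of_injective (fun e : U ≃ₗ[ZMod 2] U => (e : U → U)) DFunLike.coe_injective
  have hxB : (ρ x : U ≃ₗ[ZMod 2] U) ∈ isomGroup B' := (ρ x).2
  have hord : orderOf (ρ x) = 3 := by
    rw [orderOf_injective _ h2, hx]
  have hx3 : ∀ w, (ρ x : U ≃ₗ[ZMod 2] U) ((ρ x : U ≃ₗ[ZMod 2] U) ((ρ x : U ≃ₗ[ZMod 2] U) w)) = w := by
    intro w
    have h6 : x ^ 3 = 1 := hx ▸ pow_orderOf_eq_one x
    rw [h5, h5, h5, ← mul_smul, ← mul_smul, ← pow_two, ← pow_succ, h6, one_smul]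
  have h6 : Nat.card {u : U // x • u = u} = Nat.card (fixS (ρ x : U ≃ₗ[ZMod 2] U)) := by
    refine Nat.card_congr (Equiv.subtypeEquivRight fun u => ?_)
    show x • u = u ↔ (ρ x : U ≃ₗ[ZMod 2] U) u = u
    rw [h5]
  have h7 : finrank (ZMod 2) (fixS (ρ x : U ≃ₗ[ZMod 2] U)) = 2 * (n - k) := by
    rw [h6, Module.natCard_eq_pow_finrank (K := ZMod 2), Nat.card_zmod] at hfix
    exact Nat.pow_right_injective (le_refl 2) hfix
  obtain ⟨h8, t, ht, htx⟩ := three_claim (n - k) k U B' h3 h4 (ρ x : U ≃ₗ[ZMod 2] U) hxB hx3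
    (by rw [h1]; omega) h7
  have h9 : (⟨t, ht⟩ : isomGroup B') * ρ x = ρ x * ρ x * ⟨t, ht⟩ := Subtype.ext (LinearEquiv.ext htx)
  have h10 := two_mul_cent_le hord h9
  have h11 : Nat.card {g : isomGroup B' // g * ρ x = ρ x * g} =
      Nat.card {g : isomGroup B' // g.1 * (ρ x : U ≃ₗ[ZMod 2] U) = (ρ x : U ≃ₗ[ZMod 2] U) * g.1} :=
    Nat.card_congr (Equiv.subtypeEquivRight fun g => by rw [Subtype.ext_iff]; rfl)
  have h12 := card_isomGroup B' h3 h4 h1
  rw [ZMod.card] at h12
  have h13 : Cfsg.Agent.H37.NW.P 2 n = Nat.card (isomGroup B') := h12.symm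
  rw [h13, ← Subgroup.index_mul_card (Subgroup.normalizer ((Subgroup.zpowers (ρ x) : Subgroup (isomGroup B')) : Set _))]
  refine Nat.mul_le_mul ?_ ?_
  · have h14 : Subgroup.normalizer ((Subgroup.zpowers x : Subgroup Y) : Set Y) =
        (Subgroup.normalizer ((Subgroup.zpowers (ρ x) : Subgroup (isomGroup B')) : Set _)).comap ρ := by
      have h15 : (Subgroup.zpowers (ρ x)).comap ρ = Subgroup.zpowers x := by
        rw [← MonoidHom.map_zpowers, Subgroup.comap_map_eq_self_of_injective h2]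
      rw [← h15]
      refine (Subgroup.comap_normalizer_eq_of_le_range ?_).symm
      rw [Subgroup.zpowers_le]
      exact ⟨x, rfl⟩
    rw [h14, Subgroup.index_comap]
    have h16 := Subgroup.relIndex_le_of_le_right
      (H := Subgroup.normalizer ((Subgroup.zpowers (ρ x) : Subgroup (isomGroup B')) : Set _))
      (le_top : ρ.range ≤ ⊤) (by rw [Subgroup.relIndex_top_right]; exact Subgroup.index_ne_zero_of_finite)
    rwa [Subgroup.relIndex_top_right] at h16
  · rw [mul_assoc]
    rw [h11] at h10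
    exact (Nat.mul_le_mul_left 2 h8).trans h10

end SXsec

end Cfsg.Agent.H907.NX
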